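import Cfsg.Agent.H682.C6.NoSkew
import Cfsg.Agent.LieClassical.OrthTrans
import Cfsg.Agent.LieClassical.OrthCenter

/-!
# No orthogonal group of degree `n` contains `Y` (helper296, for S5651)

`no_pomega` : `Y` has no injective homomorphism to `POmega K Q`, `Q` a good quadratic form in `n` variables.
-/

set_option autoImplicit false

namespace Cfsg.Agent.H296.C6

open Cfsg Matrix Cfsg.Agent.H888.C6 Cfsg.Agent.LieClassical.OrthTrans Cfsg.Agent.H682.C6
open Cfsg.Agent.LieClassical

/-- The matrix of the polar form. -/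
noncomputable def polM {K : Type} [Field K] {κ : Type} [Fintype κ] [DecidableEq κ] (Q : QuadraticForm K (κ → K)) :
    Matrix κ κ K := LinearMap.toMatrix₂' K (QuadraticMap.polarBilin Q)

section Pol

variable {K : Type} [Field K] {κ : Type} [Fintype κ] [DecidableEq κ] (Q : QuadraticForm K (κ → K))

theorem polM_apply (i j : κ) : polM Q i j = QuadraticMap.polar Q (Pi.single i 1) (Pi.single j 1) := by
  rw [polM, LinearMap.toMatrix₂'_apply]
  rfl

theorem polM_symm : (polM Q)ᵀ = polM Q := by
  ext i j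
  rw [Matrix.transpose_apply, polM_apply, polM_apply, QuadraticMap.polar_comm]

theorem polM_mul {g : GL κ K} (hg : g ∈ isometryGroup K ⇑Q) :
    (g : Matrix κ κ K)ᵀ * polM Q * (g : Matrix κ κ K) = polM Q := by
  have h1 : ∀ v, Q ((g : Matrix κ κ K) *ᵥ v) = Q v := fun v => hg v v
  have h2 : (QuadraticMap.polarBilin Q).compl₁₂ (Matrix.toLin' (g : Matrix κ κ K)) (Matrix.toLin' (g : Matrix κ κ K)) =
      QuadraticMap.polarBilin Q := by
    apply LinearMap.ext
    intro x
    apply LinearMap.ext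
    intro y
    rw [LinearMap.compl₁₂_apply, Matrix.toLin'_apply, Matrix.toLin'_apply]
    change QuadraticMap.polar Q _ _ = QuadraticMap.polar Q _ _
    rw [QuadraticMap.polar, QuadraticMap.polar, ← Matrix.mulVec_add, h1, h1, h1]
  have h3 := LinearMap.toMatrix₂'_compl₁₂ (R := K) (QuadraticMap.polarBilin Q) (Matrix.toLin' (g : Matrix κ κ K))
    (Matrix.toLin' (g : Matrix κ κ K))
  rw [h2, LinearMap.toMatrix'_toLin'] at h3
  exact h3.symm

theorem polM_det (h : (QuadraticMap.polarBilin Q).Nondegenerate) : IsUnit (polM Q).det := by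
  have h1 : (polM Q).Nondegenerate := LinearMap.nondegenerate_toMatrix₂'_iff.2 h
  rw [isUnit_iff_ne_zero]
  exact Matrix.nondegenerate_iff_det_ne_zero.1 h1

end Pol

/-- **No orthogonal group.** -/
theorem no_pomega {Y : Type*} [Group Y] {A : Subgroup Y} [A.Normal] {N0 n : ℕ} (hB : Big A N0) (hn : 16 ≤ n)
    (hA : n ^ 2 ≤ Nat.card A) (hN0 : 2 * N0 = (n + 1) * (n - 2))
    (horb : ∀ lam : A →* ℤˣ, lam ≠ 1 → (orbSet A lam).ncard ≠ N0 + 1) {X : Type*} [Group X] (j : Y →* X)
    (hj : Function.Injective j) {K : Type} [Field K] [Finite K] (h2 : (2 : K) ≠ 0)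
    {κ : Type} [Fintype κ] [DecidableEq κ] (hκ : Fintype.card κ = n) {Q : QuadraticForm K (κ → K)} (hG : Good Q)
    (e : X ≃* POmega K ⇑Q) : False := by
  have hnd : (QuadraticMap.polarBilin Q).Nondegenerate := by
    exact ⟨fun x hx => hG.nondeg x hx, fun x hx => hG.nondeg x fun y => by
      rw [QuadraticMap.polar_comm]
      exact hx y⟩
  let mkO : Omega K ⇑Q →* POmega K ⇑Q := QuotientGroup.mk' _
  have hmkO : Function.Surjective mkO := QuotientGroup.mk'_surjective _
  let φ : Omega K ⇑Q →* GL κ K := (isometryGroup K ⇑Q).subtype.comp (Omega K ⇑Q).subtype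
  have hφ : Function.Injective φ := (Subgroup.subtype_injective _).comp (Subgroup.subtype_injective _)
  let f : Omega K ⇑Q →* X := e.symm.toMonoidHom.comp mkO
  let M : Subgroup (Omega K ⇑Q) := j.range.comap f
  let eM : M ≃* M.map φ := M.equivMapOfInjective φ hφ
  let f1 : M →* j.range := (f.comp M.subtype).codRestrict j.range (fun x => x.2)
  let ej : Y ≃* j.range := MonoidHom.ofInjective hj
  let π : M.map φ →* Y := (ej.symm.toMonoidHom.comp f1).comp eM.symm.toMonoidHom
  have hπ0 : ∀ m : M, π (eM m) = ej.symm (f1 m) := by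
    intro m
    change ej.symm (f1 (eM.symm (eM m))) = _
    rw [MulEquiv.symm_apply_apply]
  have hval : ∀ m : M, ((eM m : M.map φ) : GL κ K) = φ m := fun m => rfl
  refine no_skew hB hn hA hN0 horb h2 hκ (M.map φ) (polM Q) (polM_symm Q) (polM_det Q hnd) ?_ π ?_ ?_
  · rintro _ ⟨m, -, rfl⟩
    exact polM_mul Q m.1.2
  · intro y
    obtain ⟨m, hm⟩ := hmkO (e (j y))
    have hm1 : f m = j y := by
      change e.symm (mkO m) = j y
      rw [hm, MulEquiv.symm_apply_apply]
    have hm2 : m ∈ M := ⟨y, hm1.symm⟩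
    refine ⟨eM ⟨m, hm2⟩, ?_⟩
    rw [hπ0, MulEquiv.symm_apply_eq]
    exact Subtype.ext hm1
  · intro g
    obtain ⟨m, rfl⟩ := eM.surjective g
    have h1 : π (eM m) = 1 ↔ (m : Omega K ⇑Q) ∈ Subgroup.center (Omega K ⇑Q) := by
      rw [hπ0, MulEquiv.map_eq_one_iff]
      have : f1 m = 1 ↔ f m = 1 := by
        rw [← Subtype.coe_inj]
        rfl
      rw [this]
      change e.symm (mkO m) = 1 ↔ _
      rw [MulEquiv.map_eq_one_iff]
      exact QuotientGroup.eq_one_iff _
    rw [h1]
    have hdim := hG.dim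
    rw [Module.finrank_fintype_fun_eq_card] at hdim
    constructor
    · intro h3
      rcases (OrthCenter.mem_center_omega_iff hnd (by omega) hG.sing _).1 h3 with h | h
      · exact ⟨1, by rw [one_smul]; exact h⟩
      · exact ⟨-1, by rw [neg_smul, one_smul]; exact h⟩
    · rintro ⟨c, hc⟩
      rw [Subgroup.mem_center_iff]
      intro u
      apply hφ
      rw [map_mul, map_mul]
      apply Units.ext
      rw [Units.val_mul, Units.val_mul]
      have hc' : ((φ m : GL κ K) : Matrix κ κ K) = c • 1 := hc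
      rw [hc', mul_smul_comm, smul_mul_assoc, mul_one, one_mul]

end Cfsg.Agent.H296.C6
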