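import Cfsg.Agent.H296.C6.NotOm
import Cfsg.Agent.H888.C6.RowCl

/-!
# `P / scalars` is not an orthogonal group of degree `2 ^ k` (helper296, for S5651)
-/

set_option autoImplicit false

namespace Cfsg.Agent.H296.C6

open Cfsg Cfsg.Geo Matrix Cfsg.Agent.H888.C6 Cfsg.Agent.H682.C6 Cfsg.Agent.H920 Cfsg.Agent.H919
open Cfsg.Agent.LieClassical Cfsg.Agent.LieClassical.OrthCore Cfsg.Agent.LieClassical.OrthTrans Cfsg.Agent.LieClassical.OrthForms
  Cfsg.Agent.LieClassical.OrthFinite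

universe u

variable {ι : Type} [Fintype ι] [DecidableEq ι] {F : Type u} [Field F] {R : Subgroup (GL ι F)} {k : ℕ}
variable {C : Coord R 2 k} {q : V2 k → ZMod 2} {Y P : Subgroup (GL ι F)}

theorem not_pomega [Finite F] (O : Over C q Y P)
    (horb : haveI := O.yc.fact; ∀ lam : AY R Y →* ℤˣ, lam ≠ 1 → (orbSet (AY R Y) lam).ncard ≠ N0 k + 1)
    {K : Type} [Field K] [Finite K] (h2 : (2 : K) ≠ 0) {κ : Type} [Fintype κ] [DecidableEq κ]
    (hκ : Fintype.card κ = 2 ^ k) {Q : QuadraticForm K (κ → K)} (hG : Good Q) (e : QY P ≃* POmega K ⇑Q) : False := by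
  have := O.nonempty
  have h4 := O.four
  have := O.yc.fact
  obtain ⟨j, hj, -⟩ := O.exists_j
  have h16 : 16 ≤ 2 ^ k := by
    calc 16 = 2 ^ 4 := by norm_num
      _ ≤ 2 ^ k := Nat.pow_le_pow_right (by norm_num) h4
  refine no_pomega (O.yc.big O.tc (by omega)) h16 ?_ (two_N0 (by omega)) horb j hj h2 hκ hG e
  rw [card_AY C O.yc.le, ← pow_mul, mul_comm k 2]

theorem not_pomega_plus [Finite F] (O : Over C q Y P)
    (horb : haveI := O.yc.fact; ∀ lam : AY R Y →* ℤˣ, lam ≠ 1 → (orbSet (AY R Y) lam).ncard ≠ N0 k + 1)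
    {K : Type} [Field K] [Finite K] (h2 : (2 : K) ≠ 0) {m : ℕ} (hm : 2 ^ k = 2 * m)
    (e : QY P ≃* POmega K (quadFormPlus m K)) : False := by
  have h4 := O.four
  have h16 : 16 ≤ 2 ^ k := by
    calc 16 = 2 ^ 4 := by norm_num
      _ ≤ 2 ^ k := Nat.pow_le_pow_right (by norm_num) h4
  have hG : Good (plusForm m K) := by
    apply good_of_finite (nondeg_plusForm m K)
    rw [Module.finrank_fintype_fun_eq_card, Fintype.card_sum, Fintype.card_fin]
    omega
  rw [← coe_plusForm] at e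
  exact not_pomega O horb h2 (by rw [Fintype.card_sum, Fintype.card_fin]; omega) hG e

theorem not_pomega_minus [Finite F] (O : Over C q Y P)
    (horb : haveI := O.yc.fact; ∀ lam : AY R Y →* ℤˣ, lam ≠ 1 → (orbSet (AY R Y) lam).ncard ≠ N0 k + 1)
    {K : Type} [Field K] [Finite K] (h2 : (2 : K) ≠ 0) {m : ℕ} (hm : 2 ^ k = 2 * m) {a b : K}
    (hab : ∀ z₁ z₂ : K, z₁ ^ 2 + a * z₁ * z₂ + b * z₂ ^ 2 = 0 → z₁ = 0 ∧ z₂ = 0)
    (e : QY P ≃* POmega K (quadFormMinus (m - 1) K a b)) : False := by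
  have h4 := O.four
  have h16 : 16 ≤ 2 ^ k := by
    calc 16 = 2 ^ 4 := by norm_num
      _ ≤ 2 ^ k := Nat.pow_le_pow_right (by norm_num) h4
  have hG : Good (minusForm (m - 1) K a b) := by
    apply good_of_finite (nondeg_minusForm (m - 1) K a b hab)
    rw [Module.finrank_fintype_fun_eq_card, Fintype.card_sum, Fintype.card_sum, Fintype.card_fin, Fintype.card_fin]
    omega
  rw [← coe_minusForm] at e
  exact not_pomega O horb h2 (by
    rw [Fintype.card_sum, Fintype.card_sum, Fintype.card_fin, Fintype.card_fin]; omega) hG e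

end Cfsg.Agent.H296.C6
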